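import Groth.Agent.Lib.ProjDeg17.LinearForms
import Groth.Agent.Lib.Twist.UniversalExist
import Groth.Agent.Lib.ProjSpace.Basic
import Groth.Agent.Lib.VarDim.Irred
import Groth.Agent.Lib.RegExt.P1
import Groth.Agent.Lib.Twist.ProjSpace

/-!
# Linear projections

For a closed subscheme `Y` of `P^N` of dimension `d` over an infinite field there are `d + 1` linear forms
without common zero on `Y`; they define a finite surjective morphism `Y ⟶ P^d` pulling `O(1)` back to `O(1)`.
-/

set_option linter.style.haveILetI false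
set_option autoImplicit false
set_option maxHeartbeats 400000

universe u

open CategoryTheory Limits AlgebraicGeometry Opposite TopologicalSpace

namespace Groth.Agent.ProjDeg17

open Groth.Agent.M1 Groth.Agent.Twist Groth.Agent.ProjUP Groth.Agent.VarDim

section general

variable {R A : Type u} [CommRing R] [CommRing A] [Algebra R A] (𝒜 : ℕ → Submodule R A) [GradedAlgebra 𝒜]
variable {X : Scheme.{u}}

theorem isGen_app_iso {M N : X.Modules} (τ : M ≅ N) {U : X.Opens} {g : Γ(M, U)} (hg : IsGen M U g) :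
    IsGen N U (τ.hom.app U g) := fun V h => by
  have hb : Function.Bijective (τ.hom.app V) := (ConcreteCategory.isIso_iff_bijective _).1 inferInstance
  have : (fun r : Γ(X, V) => r • mres N h (τ.hom.app U g)) =
      (τ.hom.app V) ∘ fun r : Γ(X, V) => r • mres M h g := funext fun r => by
    rw [Function.comp_apply, Scheme.Modules.Hom.app_smul, app_mres]
  rw [this]
  exact hb.comp (hg V h)

variable (r : X ⟶ Proj 𝒜) {M : Type u} (e : M → A) (he : ∀ m, e m ∈ 𝒜 1)
  (hgen : Algebra.adjoin R (Set.range e) = ⊤)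

include he hgen in
/-- A section `r^* a` can only generate where `a` does not vanish. -/
theorem le_preimage_basicOpen_of_isGen {a : A} (ha : a ∈ 𝒜 1) {U : X.Opens}
    (hU : IsGen ((Scheme.Modules.pullback r).obj (_root_.Twist.twist 𝒜 1)) U
      (mres _ (le_top : U ≤ ⊤) (sec 𝒜 r ha))) :
    U ≤ r ⁻¹ᵁ Proj.basicOpen 𝒜 a := by
  intro x hx
  obtain ⟨m, hm⟩ := ProjUP.exists_mem_basicOpen 𝒜 e he hgen (r x)
  let W := U ⊓ r ⁻¹ᵁ Proj.basicOpen 𝒜 (e m)
  have hW : W ≤ r ⁻¹ᵁ Proj.basicOpen 𝒜 (e m) := inf_le_right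
  have hs := sec_eq_ev_smul 𝒜 r (he m) ha W hW
  obtain ⟨d, hd⟩ := (hU W inf_le_left).2 (mres _ (le_top : W ≤ ⊤) (sec 𝒜 r (he m)))
  dsimp only at hd
  rw [mres_mres, hs, smul_smul] at hd
  have hone : d * ev 𝒜 (he m) r W hW a = 1 := by
    refine ((isGen_sec_of_le 𝒜 r (he m) hW) W le_rfl).1 ?_
    show _ • mres _ le_rfl (mres _ le_top (sec 𝒜 r (he m))) = (1 : Γ(X, W)) • mres _ le_rfl (mres _ le_top (sec 𝒜 r (he m)))
    rw [mres_id, one_smul, hd]
  have hb := basicOpen_ev 𝒜 (he m) r W hW ha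
  rw [Scheme.basicOpen_of_isUnit _ (IsUnit.of_mul_eq_one_right _ hone)] at hb
  exact (hb.le ⟨hx, hm⟩).2

section two

variable {S B : Type u} [CommRing S] [CommRing B] [Algebra S B] (ℬ : ℕ → Submodule S B) [GradedAlgebra ℬ]
  (π : X ⟶ Proj ℬ) {M' : Type u} (e' : M' → B) (he' : ∀ m, e' m ∈ ℬ 1)
  (hgen' : Algebra.adjoin S (Set.range e') = ⊤)

include he hgen he' hgen' in
theorem preimage_basicOpen_eq_of_iso
    (τ : (Scheme.Modules.pullback π).obj (_root_.Twist.twist ℬ 1) ≅
      (Scheme.Modules.pullback r).obj (_root_.Twist.twist 𝒜 1))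
    {a : A} (ha : a ∈ 𝒜 1) {b : B} (hb : b ∈ ℬ 1)
    (h : τ.hom.app ⊤ (sec ℬ π hb) = sec 𝒜 r ha) :
    π ⁻¹ᵁ Proj.basicOpen ℬ b = r ⁻¹ᵁ Proj.basicOpen 𝒜 a := by
  refine le_antisymm ?_ ?_
  · refine le_preimage_basicOpen_of_isGen 𝒜 r e he hgen ha ?_
    have := isGen_app_iso τ (isGen_sec ℬ π hb)
    rwa [app_mres, h] at this
  · refine le_preimage_basicOpen_of_isGen ℬ π e' he' hgen' hb ?_
    have := isGen_app_iso τ.symm (isGen_sec 𝒜 r ha)
    rw [app_mres, ← h] at this
    have e2 : τ.symm.hom.app ⊤ (τ.hom.app ⊤ (sec ℬ π hb)) = sec ℬ π hb := by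
      show (τ.hom ≫ τ.inv).app ⊤ (sec ℬ π hb) = _
      rw [τ.hom_inv_id]; rfl
    rwa [e2] at this

end two

end general

section projection

variable (k : Type u) [Field k] [Infinite k] (N : ℕ)

/-- The specialization order height is bounded by the dimension of a closed set containing the point. -/
theorem height_le_dim_of_mem {X : Scheme.{u}} {Z : Set X} (hZ : IsClosed Z) {x : X} (hx : x ∈ Z) :
    (Order.height x : WithBot ℕ∞) ≤ topologicalKrullDim Z := by
  rw [← topologicalKrullDim_closure_singleton]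
  have hsub : closure ({x} : Set X) ⊆ Z := closure_minimal (Set.singleton_subset_iff.2 hx) hZ
  exact Topology.IsInducing.topologicalKrullDim_le (Topology.IsEmbedding.inclusion hsub).isInducing

/-- `d + 1` linear forms without common zero on a closed subset of dimension at most `d`. -/
theorem exists_linearForms_no_common_zero {Z : Set (CohB1.ProjSpace N k)} (hZ : IsClosed Z) (d : ℕ)
    (hd : topologicalKrullDim Z ≤ (d : WithBot ℕ∞)) :
    ∃ h : Fin (d + 1) → MvPolynomial (Fin (N + 1)) k, (∀ i, h i ∈ CohB1.polyGrading N k 1) ∧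
      ∀ x : CohB1.ProjSpace N k, x ∈ Z → ∃ i, x ∈ Proj.basicOpen (CohB1.polyGrading N k) (h i) := by
  haveI : NoetherianSpace (CohB1.ProjSpace N k) :=
    VarDim.noetherianSpace_of_finiteType (CohB1.ProjSpace.toSpec N k)
  suffices ∀ i ≤ d + 1, ∃ h : Fin i → MvPolynomial (Fin (N + 1)) k,
      (∀ j, h j ∈ CohB1.polyGrading N k 1) ∧ ∀ x : CohB1.ProjSpace N k, x ∈ Z →
        (∀ j, x ∉ Proj.basicOpen (CohB1.polyGrading N k) (h j)) →
          (Order.height x : WithBot ℕ∞) + i ≤ d by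
    obtain ⟨h, hh, hmain⟩ := this (d + 1) le_rfl
    refine ⟨h, hh, fun x hx => ?_⟩
    by_contra hc
    push Not at hc
    have h1 := hmain x hx hc
    have h2 : ((d + 1 : ℕ) : WithBot ℕ∞) ≤ (d : ℕ) := by
      refine le_trans ?_ h1
      calc ((d + 1 : ℕ) : WithBot ℕ∞) = 0 + ((d + 1 : ℕ) : WithBot ℕ∞) := (zero_add _).symm
        _ ≤ (Order.height x : WithBot ℕ∞) + ((d + 1 : ℕ) : WithBot ℕ∞) := by
          gcongr
          exact WithBot.coe_le_coe.2 bot_le
    exact absurd (Nat.cast_le.1 h2) (by omega)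
  intro i hi
  induction i with
  | zero =>
    refine ⟨Fin.elim0, fun j => j.elim0, fun x hx _ => ?_⟩
    rw [Nat.cast_zero, add_zero]
    exact (height_le_dim_of_mem hZ hx).trans hd
  | succ i ih =>
    obtain ⟨h, hh, hmain⟩ := ih (by omega)
    let T : Set (CohB1.ProjSpace N k) :=
      Z ∩ ⋂ j, ((show (CohB1.ProjSpace N k).Opens from Proj.basicOpen (CohB1.polyGrading N k) (h j)) : Set (CohB1.ProjSpace N k))ᶜ
    have hT : IsClosed T := hZ.inter (isClosed_iInter fun j =>
      (Proj.basicOpen (CohB1.polyGrading N k) (h j)).isOpen.isClosed_compl)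
    obtain ⟨G, hG⟩ := VarDim.exists_finite_generic hT
    classical
    let prime : CohB1.ProjSpace N k → Ideal (MvPolynomial (Fin (N + 1)) k) := fun g =>
      (g : ProjectiveSpectrum (CohB1.polyGrading N k)).asHomogeneousIdeal.toIdeal
    obtain ⟨f, hf, hfG⟩ := exists_linearForm_avoid (G.image prime) (fun P hP hle => by
      obtain ⟨g, -, rfl⟩ := Finset.mem_image.1 hP
      exact (g : ProjectiveSpectrum (CohB1.polyGrading N k)).not_irrelevant_le
        (show (HomogeneousIdeal.irrelevant (CohB1.polyGrading N k)).toIdeal ≤ prime g from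
          (ProjSpace.irrelevant_le_span N k).trans hle))
    refine ⟨Fin.snoc h f, fun j => ?_, fun x hx hj => ?_⟩
    · refine Fin.lastCases ?_ ?_ j
      · rw [Fin.snoc_last]; exact hf
      · intro j; rw [Fin.snoc_castSucc]; exact hh j
    · have hxT : x ∈ T := ⟨hx, Set.mem_iInter.2 fun j => by
        have := hj j.castSucc
        rwa [Fin.snoc_castSucc] at this⟩
      obtain ⟨g, hgG, hgx⟩ := (hG x).1 hxT
      have hne : x ≠ g := by
        rintro rfl
        have h1 := hj (Fin.last i)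
        rw [Fin.snoc_last] at h1
        refine hfG (prime x) (Finset.mem_image_of_mem _ hgG) ?_
        by_contra hc
        exact h1 hc
      have hlt : x < g := lt_of_specializes_ne hgx hne
      have hgT : g ∈ T := (hG g).2 ⟨g, hgG, specializes_rfl⟩
      have hgh := hmain g hgT.1 (fun j => Set.mem_iInter.1 hgT.2 j)
      calc (Order.height x : WithBot ℕ∞) + ((i + 1 : ℕ) : WithBot ℕ∞)
          = ((Order.height x + 1 : ℕ∞) : WithBot ℕ∞) + i := by
            push_cast; rw [add_comm (i : WithBot ℕ∞) 1, ← add_assoc]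
        _ ≤ (Order.height g : WithBot ℕ∞) + i := by
            gcongr
            exact WithBot.coe_le_coe.2 (Order.height_add_one_le hlt)
        _ ≤ d := hgh

end projection

section morphism

variable {k : Type u} [Field k]

theorem adjoin_X_eq_top (n : ℕ) :
    Algebra.adjoin k (Set.range fun m : ULift.{u} (Fin (n + 1)) =>
      (MvPolynomial.X m.down : MvPolynomial (Fin (n + 1)) k)) = ⊤ := by
  rw [show (Set.range fun m : ULift.{u} (Fin (n + 1)) => (MvPolynomial.X m.down : MvPolynomial (Fin (n + 1)) k))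
    = Set.range MvPolynomial.X from EquivLike.range_comp MvPolynomial.X (Equiv.ulift (α := Fin (n + 1)))]
  exact MvPolynomial.adjoin_range_X

variable {N d : ℕ} {Y : Scheme.{u}} (f : Y ⟶ Spec (CommRingCat.of k))
  (ι : Y ⟶ CohB1.ProjSpace N k) [IsClosedImmersion ι] (hι : ι ≫ CohB1.ProjSpace.toSpec N k = f)
  (h : Fin (d + 1) → MvPolynomial (Fin (N + 1)) k) (hh : ∀ i, h i ∈ CohB1.polyGrading N k 1)
  (hcov : ∀ y : Y, ∃ i, ι y ∈ Proj.basicOpen (CohB1.polyGrading N k) (h i))

include hι hh hcov in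
/-- Linear forms without common zero on `Y` define a finite morphism to projective space. -/
theorem exists_finite_hom_of_linearForms :
    ∃ π : Y ⟶ CohB1.ProjSpace d k, π ≫ CohB1.ProjSpace.toSpec d k = f ∧ IsFinite π ∧
      Nonempty ((Scheme.Modules.pullback π).obj (_root_.Twist.twistProjSpace d k 1) ≅
        (Scheme.Modules.pullback ι).obj (_root_.Twist.twistProjSpace N k 1)) := by
  let 𝒜 := CohB1.polyGrading N k
  let ℬ := CohB1.polyGrading d k
  let ι' : Y ⟶ Proj 𝒜 := ι
  haveI : IsClosedImmersion ι' := ‹_›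
  let e : ULift.{u} (Fin (d + 1)) → MvPolynomial (Fin (d + 1)) k := fun m => MvPolynomial.X m.down
  have he : ∀ m, e m ∈ ℬ 1 := fun m => ProjSpace.X_mem' d k m.down
  have hgen : Algebra.adjoin k (Set.range e) = ⊤ := adjoin_X_eq_top d
  let eN : ULift.{u} (Fin (N + 1)) → MvPolynomial (Fin (N + 1)) k := fun m => MvPolynomial.X m.down
  have heN : ∀ m, eN m ∈ 𝒜 1 := fun m => ProjSpace.X_mem' N k m.down
  have hgenN : Algebra.adjoin k (Set.range eN) = ⊤ := adjoin_X_eq_top N
  let L := (Scheme.Modules.pullback ι').obj (_root_.Twist.twist 𝒜 1)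
  let v : ULift.{u} (Fin (d + 1)) → Γ(L, ⊤) := fun m => sec 𝒜 ι' (hh m.down)
  have hL : PicF.IsInvertible L :=
    Groth.Agent.Twist.isInvertible_pullback ι' (Groth.Agent.Twist.isInvertible_twistProjSpace (n := N) (R := k) 1)
  have hv : _root_.ProjUP.GeneratedBy L v := fun y => by
    obtain ⟨i, hi⟩ := hcov y
    refine top_le_iff.1 fun z _ => ?_
    obtain ⟨c, rfl⟩ := ((isGen_sec 𝒜 ι' (hh i)).stalk (x := y) hi).2 z
    refine Submodule.smul_mem _ c (Submodule.subset_span ⟨⟨i⟩, ?_⟩)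
    exact (germ_mres L (le_top : ι' ⁻¹ᵁ Proj.basicOpen 𝒜 (h i) ≤ ⊤) (x := y) hi (v ⟨i⟩)).symm
  have hψ : ∀ (m : ULift.{u} (Fin (d + 1))) (U : Y.Opens),
      IsGen L U (mres L (le_top : U ≤ ⊤) (v m)) → ∃ ψ, IsLift e f L v m U ψ := by
    intro m U hU
    choose c hc using fun i : Fin (d + 1) => (hU U le_rfl).2 (mres L (le_top : U ≤ ⊤) (v ⟨i⟩))
    refine ⟨MvPolynomial.eval₂Hom ((Y.presheaf.map (homOfLE (le_top : U ≤ ⊤)).op).hom.comp
      (_root_.ProjUP.toGlobal f)) c, fun m' => ?_, fun r => MvPolynomial.eval₂Hom_C _ _ r⟩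
    show MvPolynomial.eval₂Hom _ c (MvPolynomial.X m'.down) • _ = _
    rw [MvPolynomial.eval₂Hom_X']
    have := hc m'.down
    simp only [mres_id] at this
    exact this
  obtain ⟨π, hπ, τ, hτ⟩ := exists_hom_of_lift ℬ e he hgen f L hL v hv hψ
  have hpre : ∀ i, π ⁻¹ᵁ Proj.basicOpen ℬ (MvPolynomial.X i) = ι' ⁻¹ᵁ Proj.basicOpen 𝒜 (h i) := fun i =>
    preimage_basicOpen_eq_of_iso 𝒜 ι' eN heN hgenN ℬ π e he hgen τ (hh i) (he ⟨i⟩) (hτ ⟨i⟩)
  haveI : IsAffineHom π := by
    refine isAffineHom_of_forall_exists_isAffineOpen _ fun z => ?_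
    obtain ⟨m, hm⟩ := ProjUP.exists_mem_basicOpen ℬ e he hgen z
    refine ⟨Proj.basicOpen ℬ (e m), hm, Proj.isAffineOpen_basicOpen ℬ _ (he m) Nat.one_pos, ?_⟩
    rw [show π ⁻¹ᵁ Proj.basicOpen ℬ (e m) = ι' ⁻¹ᵁ Proj.basicOpen 𝒜 (h m.down) from hpre m.down]
    exact (Proj.isAffineOpen_basicOpen 𝒜 _ (hh m.down) Nat.one_pos).preimage ι'
  haveI : IsProper (π ≫ toBase ℬ) := by
    rw [hπ, ← hι]
    exact MorphismProperty.comp_mem @IsProper ι (CohB1.ProjSpace.toSpec N k) inferInstance inferInstance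
  haveI : IsProper (toBase ℬ) := ProjSpace.isProper_toSpec d k
  have hp : IsProper π := IsProper.of_comp π (toBase ℬ)
  have ha : IsAffineHom π := inferInstance
  exact ⟨π, hπ, IsFinite.iff_isProper_and_isAffineHom.2 ⟨hp, ha⟩, ⟨τ⟩⟩

theorem topologicalKrullDim_projSpace_le (n : ℕ) :
    topologicalKrullDim (CohB1.ProjSpace n k) ≤ (n : WithBot ℕ∞) := by
  rw [dim_eq_iSup_sdim (CohB1.ProjSpace.toSpec n k)]
  refine iSup_le fun x => ?_
  obtain ⟨i, hi⟩ := ProjSpace.exists_mem_chart n k x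
  have hU := isAffineOpen_opensRange (ProjSpace.chart n k i)
  rw [show ((sdim (CohB1.ProjSpace.toSpec n k) x : ℕ) : WithBot ℕ∞) =
      (((sdim (CohB1.ProjSpace.toSpec n k) x : ℕ) : ℕ∞) : WithBot ℕ∞) from rfl,
    ← sdim_eq_coheight (CohB1.ProjSpace.toSpec n k) hU x hi]
  refine (Order.coheight_le_krullDim _).trans ?_
  show ringKrullDim Γ(CohB1.ProjSpace n k, (ProjSpace.chart n k i).opensRange) ≤ _
  have e1 : CommRingCat.of (MvPolynomial {j : Fin (n + 1) // j ≠ i} k) ≅
      Γ(CohB1.ProjSpace n k, (ProjSpace.chart n k i).opensRange) :=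
    (Scheme.ΓSpecIso _).symm ≪≫ IsOpenImmersion.ΓIsoTop (ProjSpace.chart n k i)
  rw [← ringKrullDim_eq_of_ringEquiv e1.commRingCatIsoToRingEquiv,
    MvPolynomial.ringKrullDim_of_isNoetherianRing, ringKrullDim_eq_zero_of_field]
  simp

/-- A finite morphism from a scheme of dimension `d` to `P^d` is surjective. -/
theorem surjective_of_isFinite_of_dim {d : ℕ} (π : Y ⟶ CohB1.ProjSpace d k) [IsFinite π]
    (hdim : topologicalKrullDim Y = (d : WithBot ℕ∞)) : Function.Surjective π.base := by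
  haveI : IsIntegral (CohB1.ProjSpace d k) := RegExt.isIntegral_projSpace d k
  have hmono : StrictMono (fun y : Y => π y) := by
    intro a b hab
    rw [lt_iff_specializes_and_ne] at hab ⊢
    refine ⟨hab.1.map π.continuous, fun heq => hab.2 ?_⟩
    haveI := (π.isDiscrete_preimage_singleton (π a)).to_subtype
    have hs : (⟨b, heq.symm⟩ : (π ⁻¹' {π a} : Set Y)) ⤳ ⟨a, rfl⟩ :=
      Topology.IsInducing.subtypeVal.specializes_iff.1 hab.1
    exact (congrArg Subtype.val (specializes_iff_eq.1 hs)).symm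
  haveI : Nonempty Y := by
    by_contra hne
    rw [not_nonempty_iff] at hne
    rw [scheme_dim_eq_iSup_height, iSup_of_empty] at hdim
    simp at hdim
  obtain ⟨y, hy⟩ : ∃ y : Y, (d : ℕ∞) ≤ Order.height y := by
    by_contra hc
    push Not at hc
    have hle : topologicalKrullDim Y ≤ ((d - 1 : ℕ) : WithBot ℕ∞) := by
      rw [scheme_dim_eq_iSup_height]
      refine iSup_le fun y => ?_
      have := hc y
      rw [show ((d - 1 : ℕ) : WithBot ℕ∞) = (((d - 1 : ℕ) : ℕ∞) : WithBot ℕ∞) from rfl, WithBot.coe_le_coe]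
      obtain ⟨m, hm⟩ := ENat.ne_top_iff_exists.1 this.ne_top
      rw [← hm] at this ⊢
      rw [Nat.cast_lt] at this
      rw [Nat.cast_le]
      omega
    rw [hdim, Nat.cast_le] at hle
    obtain rfl : d = 0 := by omega
    exact absurd (hc (Classical.arbitrary Y)) (by simp)
  have hy' : (d : ℕ∞) ≤ Order.height (π y) := hy.trans (Order.height_le_height_apply_of_strictMono _ hmono y)
  have hgen : π y = genericPoint (CohB1.ProjSpace d k) := by
    by_contra hne
    have hlt : π y < genericPoint (CohB1.ProjSpace d k) :=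
      lt_of_specializes_ne (genericPoint_specializes _) hne
    have h2 : (Order.height (genericPoint (CohB1.ProjSpace d k)) : WithBot ℕ∞) ≤ (d : WithBot ℕ∞) := by
      refine le_trans ?_ (topologicalKrullDim_projSpace_le (k := k) d)
      rw [topologicalKrullDim_eq_height_genericPoint]
    rw [show ((d : ℕ) : WithBot ℕ∞) = ((d : ℕ∞) : WithBot ℕ∞) from rfl, WithBot.coe_le_coe] at h2
    have h3 : (d : ℕ∞) + 1 ≤ d := ((add_le_add_left hy' 1).trans (Order.height_add_one_le hlt)).trans h2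
    have h4 : ((d + 1 : ℕ) : ℕ∞) ≤ ((d : ℕ) : ℕ∞) := by push_cast; exact h3
    rw [Nat.cast_le] at h4
    omega
  intro z
  have hc : IsClosed (Set.range π) := π.isClosedMap.isClosed_range
  have hmem : genericPoint (CohB1.ProjSpace d k) ∈ Set.range π := ⟨y, hgen⟩
  have hz : z ∈ closure (Set.range π) := closure_mono (Set.singleton_subset_iff.2 hmem)
    (specializes_iff_mem_closure.1 (genericPoint_specializes z))
  rw [hc.closure_eq] at hz
  exact hz

end morphism

end Groth.Agent.ProjDeg17
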