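import Mathlib

/-!
# Linear forms cutting a projective variety down to nothing

Graded Noether normalisation, existence part: over an infinite field, a homogeneous ideal `I` of
`k[X_0, …, X_n]` with `dim (S/I) ≤ c` admits `c` linear forms which together with `I` generate an
ideal with radical containing the irrelevant ideal.
-/

set_option linter.style.haveILetI false

universe u

open MvPolynomial

namespace Groth.Agent.ProjDeg17

attribute [local instance] MvPolynomial.gradedAlgebra

variable {k : Type u} [Field k] {n : ℕ}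

variable (k n) in
/-- The irrelevant ideal. -/
noncomputable abbrev irr : Ideal (MvPolynomial (Fin (n + 1)) k) :=
  Ideal.span (Set.range (X : Fin (n + 1) → MvPolynomial (Fin (n + 1)) k))

variable (k n) in
lemma irr_eq_ker : irr k n = RingHom.ker (constantCoeff (R := k) (σ := Fin (n + 1))) := by
  ext x
  rw [irr, ← Set.image_univ, mem_ideal_span_X_image, RingHom.mem_ker, constantCoeff_eq]
  constructor
  · intro h
    by_contra hc
    obtain ⟨i, -, hi⟩ := h 0 (mem_support_iff.mpr hc)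
    exact hi rfl
  · intro h m hm
    by_contra hc
    have : m = 0 := Finsupp.ext fun i => by
      by_contra hi
      exact hc ⟨i, Set.mem_univ _, hi⟩
    exact mem_support_iff.mp hm (this ▸ h)

variable (k n) in
lemma isMaximal_irr : (irr k n).IsMaximal := by
  rw [irr_eq_ker]
  exact RingHom.ker_isMaximal_of_surjective _ fun a => ⟨C a, constantCoeff_C _ a⟩

/-- A proper homogeneous ideal is contained in the irrelevant ideal. -/
lemma le_irr_of_isHomogeneous {J : Ideal (MvPolynomial (Fin (n + 1)) k)}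
    (hJ : J.IsHomogeneous (homogeneousSubmodule (Fin (n + 1)) k)) (hne : J ≠ ⊤) :
    J ≤ irr k n := by
  intro x hx
  rw [irr_eq_ker, RingHom.mem_ker]
  have h0 : homogeneousComponent 0 x ∈ J := by
    rw [← MvPolynomial.decomposition.decompose'_apply x 0]
    exact hJ 0 hx
  rw [homogeneousComponent_zero] at h0
  by_contra hc
  exact hne (Ideal.eq_top_of_isUnit_mem _ h0 ((isUnit_iff_ne_zero.mpr hc).map C))

lemma ringKrullDim_quot_succ_le {R : Type*} [CommRing R] {P Q : Ideal R} [P.IsPrime] (hPQ : P ≤ Q)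
    {a : R} (haQ : a ∈ Q) (haP : a ∉ P) :
    ringKrullDim (R ⧸ Q) + 1 ≤ ringKrullDim (R ⧸ P) := by
  refine ringKrullDim_succ_le_of_surjective (Ideal.Quotient.factor hPQ)
    (Ideal.Quotient.factor_surjective hPQ) (r := Ideal.Quotient.mk P a) ?_ ?_
  · exact mem_nonZeroDivisors_of_ne_zero fun h => haP (Ideal.Quotient.eq_zero_iff_mem.mp h)
  · rw [Ideal.Quotient.factor_mk]
    exact Ideal.Quotient.eq_zero_iff_mem.mpr haQ

/-- Over an infinite field some linear form avoids finitely many primes, none of which contains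
all the variables. -/
lemma exists_linearForm_avoid [Infinite k] (s : Finset (Ideal (MvPolynomial (Fin (n + 1)) k)))
    (hs : ∀ P ∈ s, ¬ irr k n ≤ P) :
    ∃ f : MvPolynomial (Fin (n + 1)) k, f.IsHomogeneous 1 ∧ ∀ P ∈ s, f ∉ P := by
  let V := homogeneousSubmodule (Fin (n + 1)) k 1
  by_contra hc
  push Not at hc
  have hcov : ⋃ P : ↥s, ((((P.1.restrictScalars k).comap V.subtype) : Subspace k V) : Set V) =
      Set.univ := by
    refine Set.eq_univ_of_forall fun v => ?_
    obtain ⟨P, hP, hv⟩ := hc v.1 ((mem_homogeneousSubmodule _ _).mp v.2)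
    exact Set.mem_iUnion.mpr ⟨⟨P, hP⟩, hv⟩
  obtain ⟨P, hP⟩ := Subspace.exists_eq_top_of_iUnion_eq_univ hcov
  refine hs P.1 P.2 (Ideal.span_le.mpr ?_)
  rintro _ ⟨i, rfl⟩
  have : (⟨X i, (mem_homogeneousSubmodule _ _).mpr (isHomogeneous_X k i)⟩ : V) ∈
      ((P.1.restrictScalars k).comap V.subtype) := by rw [hP]; trivial
  exact this

lemma isHomogeneous_sup_span {m : ℕ} {I : Ideal (MvPolynomial (Fin (n + 1)) k)}
    (hI : I.IsHomogeneous (homogeneousSubmodule (Fin (n + 1)) k))
    {h : Fin m → MvPolynomial (Fin (n + 1)) k} (hh : ∀ i, (h i).IsHomogeneous 1) :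
    (I ⊔ Ideal.span (Set.range h)).IsHomogeneous (homogeneousSubmodule (Fin (n + 1)) k) := by
  refine Ideal.IsHomogeneous.sup hI (Ideal.homogeneous_span _ _ ?_)
  rintro _ ⟨i, rfl⟩
  exact ⟨1, (mem_homogeneousSubmodule _ _).mpr (hh i)⟩

/-- A minimal prime over a homogeneous ideal is homogeneous. -/
lemma isHomogeneous_of_mem_minimalPrimes {J P : Ideal (MvPolynomial (Fin (n + 1)) k)}
    (hJ : J.IsHomogeneous (homogeneousSubmodule (Fin (n + 1)) k)) (hP : P ∈ J.minimalPrimes) :
    P.IsHomogeneous (homogeneousSubmodule (Fin (n + 1)) k) := by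
  rw [Ideal.IsHomogeneous.iff_eq]
  refine le_antisymm (Ideal.toIdeal_homogeneousCore_le _ _) (hP.2 ⟨hP.1.1.homogeneousCore, ?_⟩
    (Ideal.toIdeal_homogeneousCore_le _ _))
  have := Ideal.homogeneousCore_mono (homogeneousSubmodule (Fin (n + 1)) k) hP.1.2
  rw [← hJ.toIdeal_homogeneousCore_eq_self]
  exact this

theorem exists_linearForms_sup_radical [Infinite k] (I : Ideal (MvPolynomial (Fin (n + 1)) k))
    (hI : I.IsHomogeneous (homogeneousSubmodule (Fin (n + 1)) k)) (c : ℕ)
    (hdim : ringKrullDim (MvPolynomial (Fin (n + 1)) k ⧸ I) ≤ c) :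
    ∃ h : Fin c → MvPolynomial (Fin (n + 1)) k, (∀ i, (h i).IsHomogeneous 1) ∧
      irr k n ≤ (I ⊔ Ideal.span (Set.range h)).radical := by
  have hmax := isMaximal_irr k n
  suffices ∀ i ≤ c, ∃ h : Fin i → MvPolynomial (Fin (n + 1)) k, (∀ j, (h j).IsHomogeneous 1) ∧
      ∀ Q : Ideal (MvPolynomial (Fin (n + 1)) k), Q.IsPrime → I ⊔ Ideal.span (Set.range h) ≤ Q →
        Q ≠ irr k n → ringKrullDim (MvPolynomial (Fin (n + 1)) k ⧸ Q) + i ≤ c by
    obtain ⟨h, hh, hQ⟩ := this c le_rfl
    refine ⟨h, hh, ?_⟩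
    rw [Ideal.radical_eq_sInf]
    refine le_sInf fun Q ⟨hJQ, hQp⟩ => ?_
    haveI := hQp
    obtain ⟨P, hP, hPQ⟩ := Ideal.exists_minimalPrimes_le hJQ
    refine le_trans (le_of_eq ?_) hPQ
    by_contra hne
    haveI := hP.1.1
    have h1 := hQ P hP.1.1 hP.1.2 (Ne.symm hne)
    have hle := le_irr_of_isHomogeneous
      (isHomogeneous_of_mem_minimalPrimes (isHomogeneous_sup_span hI hh) hP) hP.1.1.ne_top
    obtain ⟨a, ha, haP⟩ := SetLike.exists_of_lt (lt_of_le_of_ne hle (Ne.symm hne))
    have h2 := ringKrullDim_quot_succ_le hle ha haP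
    have h3 : (0 : WithBot ℕ∞) ≤ ringKrullDim (MvPolynomial (Fin (n + 1)) k ⧸ irr k n) := by
      haveI : Nontrivial (MvPolynomial (Fin (n + 1)) k ⧸ irr k n) :=
        Ideal.Quotient.nontrivial_iff.mpr hmax.ne_top
      exact ringKrullDim_nonneg_of_nontrivial
    have h4 : (1 : WithBot ℕ∞) + c ≤ c := by
      calc (1 : WithBot ℕ∞) + c = 0 + 1 + c := by rw [zero_add]
        _ ≤ ringKrullDim (MvPolynomial (Fin (n + 1)) k ⧸ irr k n) + 1 + c := by gcongr
        _ ≤ ringKrullDim (MvPolynomial (Fin (n + 1)) k ⧸ P) + c := by gcongr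
        _ ≤ c := h1
    have h5 : ((1 + c : ℕ) : WithBot ℕ∞) ≤ ((c : ℕ) : WithBot ℕ∞) := by push_cast; exact h4
    have := Nat.cast_le.mp h5
    omega
  intro i hi
  induction i with
  | zero =>
    refine ⟨Fin.elim0, fun j => j.elim0, fun Q _ hQ _ => ?_⟩
    rw [Nat.cast_zero, add_zero]
    exact (ringKrullDim_le_of_surjective (Ideal.Quotient.factor (le_sup_left.trans hQ))
      (Ideal.Quotient.factor_surjective _)).trans hdim
  | succ i ih =>
    obtain ⟨h, hh, hQ⟩ := ih (by omega)
    have hfin : ((I ⊔ Ideal.span (Set.range h)).minimalPrimes).Finite :=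
      Ideal.finite_minimalPrimes_of_isNoetherianRing _ _
    classical
    obtain ⟨f, hf, hfP⟩ := exists_linearForm_avoid (hfin.toFinset.filter fun P => P ≠ irr k n)
      (fun P hP hle => by
        rw [Finset.mem_filter, Set.Finite.mem_toFinset] at hP
        exact hP.2 (hmax.eq_of_le hP.1.1.1.ne_top hle).symm)
    refine ⟨Fin.snoc h f, fun j => ?_, fun Q hQp hJQ hQne => ?_⟩
    · refine Fin.lastCases ?_ ?_ j
      · rw [Fin.snoc_last]; exact hf
      · intro j; rw [Fin.snoc_castSucc]; exact hh j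
    · have hsub : I ⊔ Ideal.span (Set.range h) ≤ Q := by
        refine le_trans (sup_le_sup_left (Ideal.span_mono ?_) I) hJQ
        rintro _ ⟨j, rfl⟩
        exact ⟨j.castSucc, Fin.snoc_castSucc ..⟩
      have hfQ : f ∈ Q := hJQ (Ideal.mem_sup_right (Ideal.subset_span
        ⟨Fin.last i, Fin.snoc_last ..⟩))
      haveI := hQp
      obtain ⟨P, hP, hPQ⟩ := Ideal.exists_minimalPrimes_le hsub
      haveI := hP.1.1
      have hPne : P ≠ irr k n := by
        rintro rfl
        exact hQne (hmax.eq_of_le hQp.ne_top hPQ).symm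
      have hfP' : f ∉ P := hfP P (by simp [Finset.mem_filter, hP, hPne])
      calc ringKrullDim (MvPolynomial (Fin (n + 1)) k ⧸ Q) + ((i + 1 : ℕ) : WithBot ℕ∞)
          = (ringKrullDim (MvPolynomial (Fin (n + 1)) k ⧸ Q) + 1) + i := by
            push_cast; rw [add_comm (i : WithBot ℕ∞) 1, add_assoc]
        _ ≤ ringKrullDim (MvPolynomial (Fin (n + 1)) k ⧸ P) + i := by
            gcongr; exact ringKrullDim_quot_succ_le hPQ hfQ hfP'
        _ ≤ c := hQ P hP.1.1 hP.1.2 hPne

/-- The version with a power of the irrelevant ideal. -/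
theorem exists_linearForms_pow_le [Infinite k] (I : Ideal (MvPolynomial (Fin (n + 1)) k))
    (hI : I.IsHomogeneous (homogeneousSubmodule (Fin (n + 1)) k)) (c : ℕ)
    (hdim : ringKrullDim (MvPolynomial (Fin (n + 1)) k ⧸ I) ≤ c) :
    ∃ h : Fin c → MvPolynomial (Fin (n + 1)) k, (∀ i, (h i).IsHomogeneous 1) ∧
      ∃ N : ℕ, irr k n ^ N ≤ I ⊔ Ideal.span (Set.range h) := by
  obtain ⟨h, hh, hle⟩ := exists_linearForms_sup_radical I hI c hdim
  exact ⟨h, hh, Ideal.exists_pow_le_of_le_radical_of_fg hle (IsNoetherian.noetherian _)⟩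

end Groth.Agent.ProjDeg17
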